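import Groth.Agent.Models.H43.Jacobson
import Mathlib.RingTheory.Derivation.Lie
import Mathlib.RingTheory.Ideal.Prime
import Mathlib.Algebra.Module.Submodule.Lattice
import Mathlib.LinearAlgebra.Span.Basic
import Mathlib.Data.Finite.Defs
import Mathlib.Data.Fintype.Basic

/-!
# Cartier descent by hand

* `add_pow_derivation`: `(D + a)^p = D^p + (D^(p-1) a + a^p)` as additive operators of `B`;
* `mem_span_of_iterate`: one integrable operator with `D t = 1`;
* `span_eq_top`: commuting operators `∇ i` on a `B`-module `M`, with `∇ i (b • m) = D i b • m + b • ∇ i m`,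
  `D i (t j) = δ_ij`, `(∇ i)^p = 0` : `M` is generated by the horizontal vectors;
* `exists_solution`: `D i w_j = D j w_i`, `D_i^(p-1) w_i + w_i^p = 0` : for every prime `𝔮` there is a
  solution `g ∉ 𝔮` of `D i g = w i * g` for all `i`.
-/

set_option autoImplicit false

universe u v w

namespace Groth.Agent.Models.H43.PCurv

open Groth.Agent.Models.H43.Jacobson

section Der

variable {B : Type u} [CommRing B]

/-- multiplication by `a` as an additive endomorphism -/
abbrev mulE (a : B) : Module.End ℤ B := (AddMonoidHom.mulLeft a).toIntLinearMap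

theorem mulE_apply (a b : B) : mulE a b = a * b := rfl

theorem adIter_derivation (D : Derivation ℤ B B) (a : B) (n : ℕ) :
    adIter (D : Module.End ℤ B) (mulE a) n = mulE ((D^[n]) a) := by
  induction n with
  | zero => rfl
  | succ n ih =>
    apply LinearMap.ext
    intro y
    rw [adIter, ih, Function.iterate_succ_apply']
    simp only [LinearMap.sub_apply, Module.End.mul_apply, mulE_apply, Derivation.coeFn_coe,
      Derivation.leibniz, smul_eq_mul]
    ring

/-- **`(D + a)^p = D^p + (D^(p-1) a + a^p)`** in characteristic `p`. -/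
theorem add_pow_derivation {p : ℕ} (hp : p.Prime) (hpB : (p : B) = 0) (D : Derivation ℤ B B) (a y : B) :
    ((fun z => D z + a * z)^[p]) y = (D^[p]) y + ((D^[p - 1]) a + a ^ p) * y := by
  have hpE : ((p : ℕ) : Module.End ℤ B) = 0 := by
    apply LinearMap.ext
    intro y
    change (p : ℕ) • y = 0
    rw [nsmul_eq_mul, hpB, zero_mul]
  have h := jacobson hp hpE (D : Module.End ℤ B) (mulE a) (by
    intro n
    rw [adIter_derivation]
    apply LinearMap.ext
    intro y
    simp only [Module.End.mul_apply, mulE_apply]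
    ring)
  have h1 := congrArg (fun T : Module.End ℤ B => T y) h
  simp only [adIter_derivation, LinearMap.add_apply, Module.End.pow_apply] at h1
  have h2 : ∀ n, ((⇑((D : Module.End ℤ B) + mulE a))^[n]) y = ((fun z => D z + a * z)^[n]) y := by
    intro n; rfl
  rw [h2] at h1
  rw [h1]
  have h3 : ∀ n, ((⇑(mulE a))^[n]) y = a ^ n * y := by
    intro n
    induction n with
    | zero => simp
    | succ n ih => rw [Function.iterate_succ_apply', ih, mulE_apply, pow_succ']; ring
  rw [h3, mulE_apply]
  have h4 : ((⇑(D : Module.End ℤ B))^[p]) y = (D^[p]) y := rfl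
  rw [h4]
  ring

/-- the `p`-curvature of `D - w` -/
theorem sub_pow_derivation {p : ℕ} (hp : p.Prime) (hpB : (p : B) = 0) (D : Derivation ℤ B B) (w y : B) :
    ((fun z => D z - w * z)^[p]) y = (D^[p]) y - ((D^[p - 1]) w + w ^ p) * y := by
  have h := add_pow_derivation hp hpB D (-w) y
  have h1 : (fun z => D z + -w * z) = (fun z => D z - w * z) := by
    funext z; ring
  rw [h1] at h
  rw [h]
  have h2 : ∀ n, (D^[n]) (-w) = - (D^[n]) w := by
    intro n
    induction n with
    | zero => rfl
    | succ n ih => rw [Function.iterate_succ_apply', Function.iterate_succ_apply', ih, map_neg]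
  have h3 : (-w) ^ p = - w ^ p := by
    have : Fact p.Prime := ⟨hp⟩
    rcases hp.eq_two_or_odd' with h2' | hodd
    · subst h2'
      have h4 : w ^ 2 + w ^ 2 = 0 := by
        rw [← two_mul]
        have : (2 : B) = 0 := by exact_mod_cast hpB
        rw [this, zero_mul]
      rw [neg_sq]
      exact eq_neg_of_add_eq_zero_left h4
    · exact hodd.neg_pow w
  rw [h2, h3]
  ring

end Der

section Descent

variable {B : Type u} [CommRing B] {M : Type v} [AddCommGroup M] [Module B M]

theorem exists_nat_inv {p : ℕ} (hp : p.Prime) (hpB : (p : B) = 0) {n : ℕ} (h0 : 0 < n) (hn : n < p) :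
    ∃ m : ℕ, (m : B) * (n : B) = 1 := by
  have hcop : Nat.Coprime n p :=
    ((Nat.Prime.coprime_iff_not_dvd hp).2 (Nat.not_dvd_of_pos_of_lt h0 hn)).symm
  obtain ⟨m, -, hm⟩ := Nat.exists_mul_mod_eq_one_of_coprime hcop hp.one_lt
  refine ⟨m, ?_⟩
  rw [mul_comm, ← Nat.cast_mul, ← Nat.div_add_mod (n * m) p, hm, Nat.cast_add, Nat.cast_mul, hpB,
    zero_mul, zero_add, Nat.cast_one]

/-- `∇^n (t m) = t ∇^n m + n ∇^(n-1) m`. -/
theorem iterate_smul (D : B → B) (nb : M →+ M) (hnb : ∀ b m, nb (b • m) = D b • m + b • nb m)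
    {t : B} (ht : D t = 1) (n : ℕ) (m : M) :
    (nb^[n + 1]) (t • m) = t • (nb^[n + 1]) m + ((n + 1 : ℕ) : B) • (nb^[n]) m := by
  induction n with
  | zero =>
    simp [hnb, ht, add_comm]
  | succ n ih =>
    rw [Function.iterate_succ_apply', ih, map_add, hnb, ht, ← Function.iterate_succ_apply' nb (n + 1),
      Nat.cast_smul_eq_nsmul, map_nsmul, ← Function.iterate_succ_apply' nb n, one_smul,
      Nat.cast_smul_eq_nsmul, succ_nsmul _ (n + 1)]
    abel

/-- **one operator**: if `∇^n x = 0`, `n ≤ p`, then `x` is a combination of horizontal vectors lying in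
`N`. -/
theorem mem_span_of_iterate {p : ℕ} (hp : p.Prime) (hpB : (p : B) = 0)
    (D : B → B) (nb : M →+ M) (hnb : ∀ b m, nb (b • m) = D b • m + b • nb m)
    {t : B} (ht : D t = 1) (N : AddSubgroup M) (hN : ∀ x ∈ N, nb x ∈ N) (hNt : ∀ x ∈ N, t • x ∈ N)
    (n : ℕ) (hn : n ≤ p) (x : M) (hx : x ∈ N) (hx0 : (nb^[n]) x = 0) :
    x ∈ Submodule.span B {y : M | y ∈ N ∧ nb y = 0} := by
  induction n generalizing x with
  | zero =>
    have : x = 0 := hx0
    rw [this]
    exact Submodule.zero_mem _
  | succ n ih =>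
    rcases Nat.eq_zero_or_pos n with rfl | hpos
    · exact Submodule.subset_span ⟨hx, hx0⟩
    obtain ⟨m, hm⟩ := exists_nat_inv (B := B) hp hpB hpos (by omega)
    have h1 : (nb^[n]) (nb x) = 0 := by rw [← Function.iterate_succ_apply]; exact hx0
    have h2 := ih (by omega) (nb x) (hN x hx) h1
    have h3 : x - (m : B) • (t • nb x) ∈ Submodule.span B {y : M | y ∈ N ∧ nb y = 0} := by
      apply ih (by omega)
      · apply N.sub_mem hx
        rw [Nat.cast_smul_eq_nsmul]
        exact N.nsmul_mem (hNt _ (hN x hx)) m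
      · obtain ⟨l, rfl⟩ : ∃ l, n = l + 1 := ⟨n - 1, by omega⟩
        rw [iterate_map_sub, Nat.cast_smul_eq_nsmul, iterate_map_nsmul,
          iterate_smul D nb hnb ht l (nb x), h1, smul_zero, zero_add, ← Nat.cast_smul_eq_nsmul B m,
          smul_smul, hm, one_smul, ← Function.iterate_succ_apply, sub_self]
    have h4 : x = (x - (m : B) • (t • nb x)) + ((m : B) * t) • nb x := by
      rw [mul_smul]; abel
    rw [h4]
    exact Submodule.add_mem _ h3 (Submodule.smul_mem _ _ h2)

/-- **Cartier descent by hand**: commuting integrable operators with `∇ i ^ p = 0` and coordinates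
`t j`: the module is generated by the horizontal vectors. -/
theorem span_eq_top {ι : Type w} [Finite ι] {p : ℕ} (hp : p.Prime) (hpB : (p : B) = 0)
    (D : ι → B → B) (nb : ι → M →+ M) (hnb : ∀ i b m, nb i (b • m) = D i b • m + b • nb i m)
    (t : ι → B) (ht : ∀ i, D i (t i) = 1) (ht0 : ∀ i j, i ≠ j → D i (t j) = 0)
    (hcomm : ∀ i j m, nb i (nb j m) = nb j (nb i m)) (hnil : ∀ i m, ((nb i)^[p]) m = 0) :
    Submodule.span B {y : M | ∀ i, nb i y = 0} = ⊤ := by
  classical
  have := Fintype.ofFinite ι
  have key : ∀ s : Finset ι, Submodule.span B {y : M | ∀ i ∈ s, nb i y = 0} = ⊤ := by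
    intro s
    induction s using Finset.induction_on with
    | empty =>
      rw [eq_top_iff]
      intro x _
      exact Submodule.subset_span (by simp)
    | insert i s hi ih =>
      rw [eq_top_iff, ← ih, Submodule.span_le]
      intro x hx
      let N : AddSubgroup M :=
        { carrier := {y : M | ∀ j ∈ s, nb j y = 0}
          zero_mem' := fun j _ => map_zero _
          add_mem' := fun {a b} ha hb j hj => by rw [map_add, ha j hj, hb j hj, add_zero]
          neg_mem' := fun {a} ha j hj => by rw [map_neg, ha j hj, neg_zero] }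
      have h1 := mem_span_of_iterate hp hpB (D i) (nb i) (hnb i) (ht i) N
        (fun x hx j hj => by rw [hcomm, hx j hj, map_zero])
        (fun x hx j hj => by
          rw [hnb, ht0 j i (fun h => hi (h ▸ hj)), zero_smul, zero_add, hx j hj, smul_zero])
        p le_rfl x hx (hnil i x)
      refine Submodule.span_mono ?_ h1
      rintro y ⟨hy, hy'⟩ j hj
      rcases Finset.mem_insert.1 hj with rfl | hj
      · exact hy'
      · exact hy j hj
  have h := key Finset.univ
  simpa using h

/-- **local solutions of `D i g = w i g`**: `w` closed with vanishing `p`-curvature. -/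
theorem exists_solution {ι : Type w} [Finite ι] {p : ℕ} (hp : p.Prime) (hpB : (p : B) = 0)
    (D : ι → Derivation ℤ B B) (t : ι → B) (ht : ∀ i, D i (t i) = 1) (ht0 : ∀ i j, i ≠ j → D i (t j) = 0)
    (hcomm : ∀ i j b, D i (D j b) = D j (D i b)) (hnil : ∀ i b, ((D i)^[p]) b = 0)
    (w : ι → B) (hw : ∀ i j, D i (w j) = D j (w i))
    (hpc : ∀ i, ((D i)^[p - 1]) (w i) + w i ^ p = 0) (𝔮 : Ideal B) (h𝔮 : 𝔮 ≠ ⊤) :
    ∃ g : B, g ∉ 𝔮 ∧ ∀ i, D i g = w i * g := by
  let nb : ι → B →+ B := fun i =>
    { toFun := fun z => D i z - w i * z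
      map_zero' := by simp
      map_add' := fun a b => by rw [map_add]; ring }
  have hnb0 : ∀ i z, nb i z = D i z - w i * z := fun i z => rfl
  have h := span_eq_top (B := B) (M := B) hp hpB (fun i => D i) nb
    (fun i b m => by
      rw [hnb0, hnb0, smul_eq_mul, Derivation.leibniz, smul_eq_mul, smul_eq_mul, smul_eq_mul,
        smul_eq_mul]
      ring) t ht ht0
    (fun i j m => by
      rw [hnb0, hnb0, hnb0, hnb0, map_sub, map_sub, Derivation.leibniz, Derivation.leibniz,
        hcomm i j m, hw i j]
      simp only [smul_eq_mul]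
      ring)
    (fun i m => by
      have h1 := sub_pow_derivation hp hpB (D i) (w i) m
      have h2 : ((nb i)^[p]) m = ((fun z => D i z - w i * z)^[p]) m := rfl
      rw [h2, h1, hnil, hpc, zero_mul, sub_zero])
  by_contra hno
  push Not at hno
  apply h𝔮
  rw [eq_top_iff, ← h]
  refine Submodule.span_le.2 ?_
  intro g hg
  by_contra hg'
  obtain ⟨i, hi⟩ := hno g hg'
  apply hi
  have := hg i
  rw [hnb0, sub_eq_zero] at this
  exact this

end Descent

end Groth.Agent.Models.H43.PCurv
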