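import Mathlib.Algebra.Polynomial.Derivative
import Mathlib.Algebra.Polynomial.Eval.Coeff
import Mathlib.Algebra.Polynomial.BigOperators
import Mathlib.Tactic.ComputeDegree
import Mathlib.Algebra.CharP.Lemmas
import Mathlib.Data.Nat.Choose.Sum
import Mathlib.Data.Nat.Choose.Dvd
import Mathlib.Data.Nat.Prime.Basic
import Mathlib.RingTheory.Derivation.Basic

/-!
# Jacobson's formula `(x + a)^p = x^p + a^p + ad(x)^(p-1)(a)` when `a` commutes with all `ad(x)^n(a)`

and its application to `D + a`, `D` a derivation of a commutative ring of characteristic `p`: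
`(D + a)^p = D^p + (a^p + D^(p-1) a)`.
-/

set_option autoImplicit false

namespace Groth.Agent.Models.H43.Jacobson

open Finset Polynomial

/-- `(-1)^i * C(p-1, i) = 1` in characteristic `p`. -/
theorem neg_one_pow_mul_choose {E : Type*} [Ring E] {p : ℕ} (hp : p.Prime) (hpE : (p : E) = 0) (i : ℕ)
    (hi : i < p) : (-1 : E) ^ i * ((p - 1).choose i : E) = 1 := by
  induction i with
  | zero => simp
  | succ i ih =>
    have h1 := ih (by omega)
    have h2 : ((p - 1).choose i : E) + ((p - 1).choose (i + 1) : E) = 0 := by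
      have h3 : (p - 1).choose i + (p - 1).choose (i + 1) = p.choose (i + 1) := by
        have : p = (p - 1) + 1 := by have := hp.pos; omega
        conv_rhs => rw [this]
        exact (Nat.choose_succ_succ (p - 1) i).symm
      rw [← Nat.cast_add, h3]
      obtain ⟨c, hc⟩ := Nat.Prime.dvd_choose_self hp (by omega : i + 1 ≠ 0) hi
      rw [hc, Nat.cast_mul, hpE, zero_mul]
    have h4 : ((p - 1).choose (i + 1) : E) = - ((p - 1).choose i : E) := by
      rw [eq_neg_iff_add_eq_zero, add_comm]; exact h2
    rw [h4, pow_succ, mul_assoc, neg_mul, one_mul, neg_neg, h1]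

/-- `(L - R)^(p-1) = ∑ L^i R^(p-1-i)` for commuting elements in characteristic `p`. -/
theorem sub_pow_pred {E : Type*} [Ring E] {p : ℕ} (hp : p.Prime) (hpE : (p : E) = 0) {L R : E}
    (h : Commute L R) : (R - L) ^ (p - 1) = ∑ i ∈ range p, L ^ i * R ^ (p - 1 - i) := by
  have h1 : Commute (-L) R := h.neg_left
  rw [show R - L = -L + R by abel, h1.add_pow]
  have hp1 : p - 1 + 1 = p := by have := hp.pos; omega
  rw [hp1]
  refine Finset.sum_congr rfl fun i hi => ?_
  have h2 := neg_one_pow_mul_choose hp hpE i (Finset.mem_range.1 hi)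
  rw [neg_pow]
  have h3 : (-1 : E) ^ i * L ^ i * R ^ (p - 1 - i) * ((p - 1).choose i : E) =
      ((-1 : E) ^ i * ((p - 1).choose i : E)) * (L ^ i * R ^ (p - 1 - i)) := by
    have h5 : (L ^ i * R ^ (p - 1 - i)) * ((p - 1).choose i : E) =
        ((p - 1).choose i : E) * (L ^ i * R ^ (p - 1 - i)) :=
      (Nat.cast_commute ((p - 1).choose i) _).eq.symm
    rw [mul_assoc ((-1 : E) ^ i) (L ^ i) _, mul_assoc ((-1 : E) ^ i), h5, mul_assoc]
  rw [h3, h2, one_mul]

section Jac

variable {R : Type*} [Ring R]

/-- the iterated commutators `ad(x)^n(a)` -/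
def adIter (x a : R) : ℕ → R
  | 0 => a
  | n + 1 => x * adIter x a n - adIter x a n * x

theorem derivative_pow_noncomm (P : R[X]) (n : ℕ) :
    derivative (P ^ n) = ∑ i ∈ range n, P ^ i * derivative P * P ^ (n - 1 - i) := by
  induction n with
  | zero => simp
  | succ n ih =>
    rw [pow_succ, derivative_mul, ih, Finset.sum_range_succ, Finset.sum_mul]
    congr 1
    · refine Finset.sum_congr rfl fun i hi => ?_
      have := Finset.mem_range.1 hi
      rw [mul_assoc, ← pow_succ]
      congr 2
      omega
    · simp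

/-- **Jacobson's formula** (the case where `a` commutes with its iterated commutators). -/
theorem jacobson {p : ℕ} (hp : p.Prime) (hpR : (p : R) = 0) (x a : R)
    (hcomm : ∀ n, a * adIter x a n = adIter x a n * a) :
    (x + a) ^ p = x ^ p + a ^ p + adIter x a (p - 1) := by
  set P : R[X] := C x + X * C a with hP
  -- left and right multiplication
  let Lm : Module.End ℤ R[X] := (AddMonoidHom.mulLeft P).toIntLinearMap
  let Rm : Module.End ℤ R[X] := (AddMonoidHom.mulRight P).toIntLinearMap
  have hL : ∀ y, Lm y = P * y := fun y => rfl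
  have hR : ∀ y, Rm y = y * P := fun y => rfl
  have hcom : Commute Lm Rm := by
    apply LinearMap.ext
    intro y
    change P * (y * P) = (P * y) * P
    rw [mul_assoc]
  have hpE : ((p : ℕ) : Module.End ℤ R[X]) = 0 := by
    apply LinearMap.ext
    intro y
    change (p : ℕ) • y = 0
    rw [nsmul_eq_mul, ← map_natCast (C : R →+* R[X]), hpR, map_zero, zero_mul]
  have hLpow : ∀ (n : ℕ) y, (Lm ^ n) y = P ^ n * y := by
    intro n
    induction n with
    | zero => intro y; simp
    | succ n ih => intro y; rw [pow_succ, Module.End.mul_apply, ih, hL, pow_succ, mul_assoc]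
  have hRpow : ∀ (n : ℕ) y, (Rm ^ n) y = y * P ^ n := by
    intro n
    induction n with
    | zero => intro y; simp
    | succ n ih => intro y; rw [pow_succ, Module.End.mul_apply, ih, hR, pow_succ', mul_assoc]
  have hder : derivative P = C a := by
    simp [hP, derivative_mul]
  have h1 : derivative (P ^ p) = ((Lm - Rm) ^ (p - 1)) (C a) := by
    rw [sub_pow_pred hp hpE hcom.symm, derivative_pow_noncomm, hder, LinearMap.sum_apply]
    rw [← Finset.sum_range_reflect]
    refine Finset.sum_congr rfl fun i hi => ?_
    have hi' := Finset.mem_range.1 hi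
    rw [Module.End.mul_apply, hLpow, hRpow, mul_assoc]
    rw [mul_assoc, show p - 1 - (p - 1 - i) = i by omega]
  have h2 : ∀ n, ((Lm - Rm) ^ n) (C a) = C (adIter x a n) := by
    intro n
    induction n with
    | zero => rfl
    | succ n ih =>
      rw [pow_succ', Module.End.mul_apply, ih, LinearMap.sub_apply, hL, hR, hP, add_mul, mul_add,
        mul_assoc X, ← C_mul, ← C_mul, ← mul_assoc, ← X_mul_C (adIter x a n), mul_assoc X, ← C_mul,
        ← C_mul, hcomm n]
      simp only [adIter, C_sub]
      abel
  have h0 : (P ^ p).coeff 0 = x ^ p := by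
    rw [← Polynomial.constantCoeff_apply, map_pow]
    congr 1
    simp [hP]
  have hone : (P ^ p).coeff 1 = adIter x a (p - 1) := by
    have h3 := congrArg (fun Q => coeff Q 0) h1
    simp only [coeff_derivative, h2, coeff_C_zero] at h3
    simpa using h3
  have hz : ∀ j, 2 ≤ j → j < p → (P ^ p).coeff j = 0 := by
    intro j hj hjp
    have h3 := congrArg (fun Q => coeff Q (j - 1)) h1
    simp only [coeff_derivative, h2, coeff_C] at h3
    rw [if_neg (by omega), show j - 1 + 1 = j by omega] at h3
    have h4 : ((j - 1 : ℕ) : R) + 1 = (j : R) := by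
      rw [← Nat.cast_succ]; congr 1; omega
    rw [h4] at h3
    have hcop : Nat.Coprime j p :=
      ((Nat.Prime.coprime_iff_not_dvd hp).2 (Nat.not_dvd_of_pos_of_lt (by omega) hjp)).symm
    obtain ⟨m, -, hm⟩ := Nat.exists_mul_mod_eq_one_of_coprime hcop hp.one_lt
    have h5 : ((j * m : ℕ) : R) = 1 := by
      rw [← Nat.div_add_mod (j * m) p, hm, Nat.cast_add, Nat.cast_mul, hpR, zero_mul, zero_add,
        Nat.cast_one]
    calc (P ^ p).coeff j = (P ^ p).coeff j * ((j * m : ℕ) : R) := by rw [h5, mul_one]
      _ = 0 := by rw [Nat.cast_mul, ← mul_assoc, h3, zero_mul]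
  have hdeg : P.natDegree ≤ 1 := by
    refine (natDegree_add_le _ _).trans (max_le (by simp) ?_)
    rw [X_mul_C]
    exact (natDegree_C_mul_le a X).trans natDegree_X_le
  have htop : (P ^ p).coeff p = a ^ p := by
    have := coeff_pow_of_natDegree_le (m := p) hdeg
    rw [mul_one] at this
    rw [this]
    congr 1
    simp [hP]
  have hbig : ∀ j, p < j → (P ^ p).coeff j = 0 := by
    intro j hj
    apply coeff_eq_zero_of_natDegree_lt
    refine lt_of_le_of_lt (natDegree_pow_le.trans (Nat.mul_le_mul_left p hdeg)) ?_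
    omega
  have hPp : P ^ p = C (x ^ p) + C (adIter x a (p - 1)) * X + C (a ^ p) * X ^ p := by
    have hp2 := hp.two_le
    ext j
    simp only [coeff_add, coeff_C, coeff_C_mul_X, coeff_C_mul_X_pow]
    rcases lt_trichotomy j 1 with hj | hj | hj
    · obtain rfl : j = 0 := by omega
      simp [h0, hp.ne_zero.symm]
    · subst hj
      simp [hone, hp.ne_one.symm]
    · rcases lt_trichotomy j p with hj' | hj' | hj'
      · rw [hz j hj hj', if_neg (by omega), if_neg (by omega), if_neg (by omega)]
        simp
      · rw [if_neg (by omega), if_neg (by omega), if_pos hj', hj', htop]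
        simp
      · rw [hbig j hj', if_neg (by omega), if_neg (by omega), if_neg (by omega)]
        simp
  let ev : R[X] →+* R := eval₂RingHom' (RingHom.id R) 1 (fun a => Commute.one_right _)
  have hevC : ∀ r, ev (C r) = r := fun r => by simp [ev, eval₂RingHom']
  have hevX : ev X = 1 := by simp [ev, eval₂RingHom']
  have h6 := congrArg ev hPp
  have h7 : ev P = x + a := by rw [hP, map_add, map_mul, hevC, hevC, hevX, one_mul]
  rw [map_pow, h7, map_add, map_add, map_mul, map_mul, map_pow ev X, hevC, hevC, hevC, hevX,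
    mul_one, one_pow, mul_one] at h6
  rw [h6]
  abel

end Jac

end Groth.Agent.Models.H43.Jacobson
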